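import Groth.Prelude.Def_AlgSt3
import Groth.Agent.Lib.StAlg.DiagApps
import Groth.Agent.Lib.SymPt15.Hens

/-!
# Lifting henselian points through smooth maps from algebraic spaces to stacks
-/

universe u

open CategoryTheory CategoryTheory.Functor CategoryTheory.Limits AlgebraicGeometry Opposite

set_option linter.style.haveILetI false
set_option backward.isDefEq.respectTransparency false
set_option backward.isDefEq.respectTransparency.types false

namespace Groth.Agent.HensLift16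

open Groth.Agent.FC16 Groth.Agent.StAlg

variable {S : Scheme.{u}}

/-- sections of smooth morphisms of algebraic spaces over henselian local schemes -/
theorem exists_section_of_locP_smooth {W : AlgSp.Sp S} (hW : AlgSp.IsAlgSpace W) (R : Type u) [CommRing R]
    [HenselianLocalRing R] (str : Spec (CommRingCat.of R) ⟶ S) (a : W ⟶ (AlgSp.yon S).obj (Over.mk str))
    (ha : AlgSp.LocP @Smooth a)
    (w₀ : (AlgSp.yon S).obj (Over.mk ((Spec.map (CommRingCat.ofHom (IsLocalRing.residue R))) ≫ str)) ⟶ W)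
    (hw₀ : w₀ ≫ a = (AlgSp.yon S).map (Over.homMk (Spec.map (CommRingCat.ofHom (IsLocalRing.residue R))) rfl :
      Over.mk ((Spec.map (CommRingCat.ofHom (IsLocalRing.residue R))) ≫ str) ⟶ Over.mk str)) :
    ∃ g : (AlgSp.yon S).obj (Over.mk str) ⟶ W, g ≫ a = 𝟙 _ ∧
      (AlgSp.yon S).map (Over.homMk (Spec.map (CommRingCat.ofHom (IsLocalRing.residue R))) rfl :
        Over.mk ((Spec.map (CommRingCat.ofHom (IsLocalRing.residue R))) ≫ str) ⟶ Over.mk str) ≫ g = w₀ := by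
  obtain ⟨Z, φ, g₀, -, hφ, hg₀⟩ := SymPt15.exists_affine_lift hW (IsLocalRing.ResidueField R) _ w₀
  obtain ⟨v, hv⟩ := (AlgSp.yon S).map_surjective (φ ≫ a)
  haveI : Smooth v.left := ha φ (𝟙 _) v hφ (AlgSp.repWith_id _ _) (by rw [Category.comp_id, hv])
  have h₀ : g₀.left ≫ v.left = Spec.map (CommRingCat.ofHom (IsLocalRing.residue R)) := by
    have h : g₀ ≫ v = Over.homMk (Spec.map (CommRingCat.ofHom (IsLocalRing.residue R))) rfl :=
      (AlgSp.yon S).map_injective (by rw [Functor.map_comp, hv, ← Category.assoc, hg₀, hw₀])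
    exact congrArg CommaMorphism.left h
  haveI := SymPt15.henselianRing_ker_residue R
  obtain ⟨g, h1, h2⟩ := SymPt15.exists_section_of_smooth (IsLocalRing.residue R)
    IsLocalRing.residue_surjective (P := Z.left) v.left g₀.left h₀
  let q : Over.mk str ⟶ Z := Over.homMk g (by rw [← Over.w v, reassoc_of% h1])
  have hqv : q ≫ v = 𝟙 _ := Over.OverMorphism.ext h1
  refine ⟨(AlgSp.yon S).map q ≫ φ, by rw [Category.assoc, ← hv, ← Functor.map_comp, hqv, CategoryTheory.Functor.map_id], ?_⟩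
  rw [← Functor.map_comp_assoc, ← hg₀]
  exact congrArg (fun t => (AlgSp.yon S).map t ≫ φ) (Over.OverMorphism.ext h2)

open AlgSt in
/-- Henselian points lift through smooth maps from algebraic spaces as soon as the residual point does. -/
theorem exists_space_lift {𝒵 : AlgSt.Cat S} (g𝒵 : FibCat.IsFibGrpd 𝒵.p) (Z : AlgSp.Space S)
    (f : AlgSt.ofSp Z.obj ⥤ᵇ 𝒵) (hf : AlgSt.RepByAlgSpWith (AlgSp.LocP @Smooth) f)
    (R : Type u) [CommRing R] [HenselianLocalRing R] (str : Spec (CommRingCat.of R) ⟶ S)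
    (z : FibCat.overCat (Over.mk str) ⥤ᵇ 𝒵)
    (z₀ : (AlgSp.yon S).obj (Over.mk ((Spec.map (CommRingCat.ofHom (IsLocalRing.residue R))) ≫ str)) ⟶ Z.obj)
    (w : Nonempty (BasedFunctor.comp (BasedFunctor.comp (AlgSt.ofOverCat (Over.mk ((Spec.map (CommRingCat.ofHom (IsLocalRing.residue R))) ≫ str))) (AlgSt.ofSpMap z₀)) f ≅
      BasedFunctor.comp (AlgSt.overMap (Over.homMk (Spec.map (CommRingCat.ofHom (IsLocalRing.residue R))) rfl : Over.mk ((Spec.map (CommRingCat.ofHom (IsLocalRing.residue R))) ≫ str) ⟶ Over.mk str)) z)) :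
    ∃ z' : (AlgSp.yon S).obj (Over.mk str) ⟶ Z.obj,
      (AlgSp.yon S).map (Over.homMk (Spec.map (CommRingCat.ofHom (IsLocalRing.residue R))) rfl : Over.mk ((Spec.map (CommRingCat.ofHom (IsLocalRing.residue R))) ≫ str) ⟶ Over.mk str) ≫ z' = z₀ ∧
        Nonempty (BasedFunctor.comp (BasedFunctor.comp (AlgSt.ofOverCat (Over.mk str)) (AlgSt.ofSpMap z')) f ≅ z) := by
  obtain ⟨w⟩ := w
  let T : Over S := Over.mk str
  let T₀ : Over S := Over.mk ((Spec.map (CommRingCat.ofHom (IsLocalRing.residue R))) ≫ str)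
  let i : T₀ ⟶ T := Over.homMk (Spec.map (CommRingCat.ofHom (IsLocalRing.residue R))) rfl
  let zP : Stk.ofPsh ((AlgSp.yon S).obj T).obj ⥤ᵇ 𝒵 := BasedFunctor.comp (AlgSt.toOverCat T) z
  obtain ⟨G, a, e, he, ⟨ie⟩, -, hP⟩ := exists_rep_over (Stk.isFibGrpd_ofPsh _) g𝒵 (repByAlgSp1_of_with hf) zP
  obtain ⟨hG, hA, hsm⟩ := hP _ (preIso_of_pullback pbP_locP) hf (U := T) (𝟙 _) (F' := G) (𝟙 G) a
    (IsPullback.of_horiz_isIso ⟨by simp⟩)
  obtain ⟨e', he', ⟨η₁⟩, ⟨η₂⟩⟩ := exists_inverse he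
  let W : AlgSp.Sp S := ⟨G, hG⟩
  let l : Stk.ofPsh ((AlgSp.yon S).obj T₀).obj ⥤ᵇ FibCat.fp zP f :=
    FibCat.fpLift (Stk.ofPshMap ((AlgSp.yon S).map i).hom) (AlgSt.ofSpMap z₀)
      (wlIso (AlgSt.toOverCat T₀) w.symm ≪≫
        wrIso (wrIso (eqToIso (toOver_ofOver T₀)) (AlgSt.ofSpMap z₀)) f)
  let w₀ : (AlgSp.yon S).obj T₀ ⟶ W := ObjectProperty.homMk (mapOf (BasedFunctor.comp l e'))
  let b : W ⟶ Z.obj := ObjectProperty.homMk (mapOf (BasedFunctor.comp e (FibCat.fpSnd zP f)))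
  have h₁ : w₀ ≫ (ObjectProperty.homMk a : W ⟶ (AlgSp.yon S).obj T) = (AlgSp.yon S).map i := by
    apply ObjectProperty.hom_ext
    show mapOf (BasedFunctor.comp l e') ≫ a = _
    rw [← mapOf_ofPshMap a, ← mapOf_comp]
    exact (mapOf_congr (wlIso (BasedFunctor.comp l e') ie.symm ≪≫
      wrIso (wlIso l η₂) (FibCat.fpFst zP f))).trans (mapOf_ofPshMap _)
  have h₂ : w₀ ≫ b = z₀ := by
    apply ObjectProperty.hom_ext
    show mapOf (BasedFunctor.comp l e') ≫ mapOf (BasedFunctor.comp e (FibCat.fpSnd zP f)) = _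
    rw [← mapOf_comp]
    exact (mapOf_congr (wrIso (wlIso l η₂) (FibCat.fpSnd zP f))).trans (mapOf_ofPshMap _)
  obtain ⟨g, hg₁, hg₂⟩ := exists_section_of_locP_smooth hA R str _ hsm w₀ h₁
  refine ⟨g ≫ b, by rw [← Category.assoc, hg₂, h₂], ⟨?_⟩⟩
  have E₁ : Stk.ofPshMap (g ≫ b).hom ≅ BasedFunctor.comp (BasedFunctor.comp (Stk.ofPshMap g.hom) e) (FibCat.fpSnd zP f) :=
    (isoMapOf (BasedFunctor.comp (BasedFunctor.comp (Stk.ofPshMap g.hom) e) (FibCat.fpSnd zP f)) ≪≫ eqToIso (by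
      refine congrArg Stk.ofPshMap ((mapOf_comp (Stk.ofPshMap g.hom) (BasedFunctor.comp e (FibCat.fpSnd zP f))).trans ?_)
      rw [mapOf_ofPshMap]; rfl)).symm
  have E₂ : BasedFunctor.comp (BasedFunctor.comp (Stk.ofPshMap g.hom) e) (FibCat.fpFst zP f) ≅
      BasedFunctor.id _ :=
    isoMapOf _ ≪≫ eqToIso (by
      rw [show BasedFunctor.comp (BasedFunctor.comp (Stk.ofPshMap g.hom) e) (FibCat.fpFst zP f) =
        BasedFunctor.comp (Stk.ofPshMap g.hom) (BasedFunctor.comp e (FibCat.fpFst zP f)) from rfl,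
        mapOf_comp, mapOf_congr ie, mapOf_ofPshMap, mapOf_ofPshMap]
      exact congrArg Stk.ofPshMap (congrArg (fun t => t.hom) hg₁)) ≪≫
      (isoMapOf _ ≪≫ eqToIso (congrArg Stk.ofPshMap mapOf_id)).symm
  exact wrIso (wlIso (AlgSt.ofOverCat T) E₁) f ≪≫
    wlIso (AlgSt.ofOverCat T) ((wlIso (BasedFunctor.comp (Stk.ofPshMap g.hom) e) (FibCat.fpIso zP f)).symm ≪≫
      wrIso E₂ zP) ≪≫ wrIso (eqToIso (ofOver_toOver T)) z

end Groth.Agent.HensLift16
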